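import Cfsg.Agent.Lib.Pres.DPlus.Mono
import Cfsg.Agent.Lib.Pres.TwoGenSL2
import Cfsg.Agent.Lib.Classical.PSLSimple
import Cfsg.Agent.S2278
import Cfsg.Agent.S2279

/-!
`SL_m × SL_2` over a finite field is generated by two elements, hence so is a block subgroup.
-/

set_option autoImplicit false

namespace CfsgLib.Pres.DPlus

open Matrix
open CfsgLib.Steinberg CfsgLib.Steinberg.R1Data
open scoped MatrixGroups commutatorElement

section Product

variable {A B : Type*} [Group A] [Group B]

/-- Coprime orders separate the two coordinates. -/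
theorem mem_of_coprime {S : Subgroup (A × B)} {g : A} {g' : B} (h : (g, g') ∈ S) {k l : ℕ}
    (hk : g ^ k = 1) (hl : g' ^ l = 1) (hkl : Nat.Coprime k l) : (g, (1 : B)) ∈ S ∧ ((1 : A), g') ∈ S := by
  have hb : (k : ℤ) * k.gcdA l + (l : ℤ) * k.gcdB l = 1 := by
    rw [← Nat.gcd_eq_gcd_ab, hkl.gcd_eq_one, Nat.cast_one]
  have e1 : g ^ ((l : ℤ) * k.gcdB l) = g := by
    rw [show (l : ℤ) * k.gcdB l = 1 - (k : ℤ) * k.gcdA l by omega, _root_.zpow_sub, zpow_one, _root_.zpow_mul,
      zpow_natCast, hk, _root_.one_zpow, inv_one, mul_one]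
  have e2 : g' ^ ((k : ℤ) * k.gcdA l) = g' := by
    rw [show (k : ℤ) * k.gcdA l = 1 - (l : ℤ) * k.gcdB l by omega, _root_.zpow_sub, zpow_one, _root_.zpow_mul,
      zpow_natCast, hl, _root_.one_zpow, inv_one, mul_one]
  refine ⟨?_, ?_⟩
  · have := zpow_mem h ((l : ℤ) * k.gcdB l)
    rwa [Prod.pow_mk, e1, _root_.zpow_mul g', zpow_natCast, hl, _root_.one_zpow] at this
  · have := zpow_mem h ((k : ℤ) * k.gcdA l)
    rwa [Prod.pow_mk, e2, _root_.zpow_mul g, zpow_natCast, hk, _root_.one_zpow] at this

theorem eq_top_of_sides {S : Subgroup (A × B)} (h1 : ∀ a, (a, (1 : B)) ∈ S)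
    (h2 : ∀ b, ((1 : A), b) ∈ S) : S = ⊤ :=
  eq_top_iff.2 fun y _ => by
    have := mul_mem (h1 y.1) (h2 y.2)
    simpa using this

/-- Two elements of coprime orders give two generators of the square. -/
theorem square_of_coprime {g g' : A} (hgen : Subgroup.closure {g, g'} = ⊤) {k l : ℕ}
    (hk : g ^ k = 1) (hl : g' ^ l = 1) (hkl : Nat.Coprime k l) :
    Subgroup.closure ({(g, g'), (g', g)} : Set (A × A)) = ⊤ := by
  set S := Subgroup.closure ({(g, g'), (g', g)} : Set (A × A))
  obtain ⟨a1, a2⟩ := mem_of_coprime (S := S) (Subgroup.subset_closure (Set.mem_insert _ _)) hk hl hkl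
  obtain ⟨b1, b2⟩ := mem_of_coprime (S := S)
    (Subgroup.subset_closure (Set.mem_insert_of_mem _ rfl)) hl hk hkl.symm
  refine eq_top_of_sides (fun a => ?_) (fun b => ?_)
  · have : Subgroup.closure {g, g'} ≤ S.comap (MonoidHom.inl A A) := by
      rw [Subgroup.closure_le]
      rintro y (rfl | rfl)
      · exact a1
      · exact b1
    exact this (hgen ▸ Subgroup.mem_top a)
  · have : Subgroup.closure {g, g'} ≤ S.comap (MonoidHom.inr A A) := by
      rw [Subgroup.closure_le]
      rintro y (rfl | rfl)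
      · exact b2
      · exact a2
    exact this (hgen ▸ Subgroup.mem_top b)

/-- The second coordinate is onto. -/
theorem exists_fst {a c : A} {b d : B} (hgen : Subgroup.closure {b, d} = ⊤) (y : B) :
    ∃ x, (x, y) ∈ Subgroup.closure ({(a, b), (c, d)} : Set (A × B)) := by
  have : Subgroup.closure {b, d} ≤
      (Subgroup.closure ({(a, b), (c, d)} : Set (A × B))).map (MonoidHom.snd A B) := by
    rw [MonoidHom.map_closure, Set.image_pair]
    exact le_of_eq rfl
  obtain ⟨⟨x, y'⟩, hx, rfl⟩ := this (hgen ▸ Subgroup.mem_top y)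
  exact ⟨x, hx⟩

theorem exists_snd {a c : A} {b d : B} (hgen : Subgroup.closure {a, c} = ⊤) (x : A) :
    ∃ y, (x, y) ∈ Subgroup.closure ({(a, b), (c, d)} : Set (A × B)) := by
  have : Subgroup.closure {a, c} ≤
      (Subgroup.closure ({(a, b), (c, d)} : Set (A × B))).map (MonoidHom.fst A B) := by
    rw [MonoidHom.map_closure, Set.image_pair]
    exact le_of_eq rfl
  obtain ⟨⟨x', y⟩, hy, rfl⟩ := this (hgen ▸ Subgroup.mem_top x)
  exact ⟨y, hy⟩

end Product

section SLTwo

variable {F : Type*} [Field F] [Fintype F]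

theorem up_add (s t : F) : up s * up t = up (s + t) := Subtype.ext (by
  show (up s).1 * (up t).1 = (up (s + t)).1
  rw [up_val, up_val, up_val]
  ext i j
  fin_cases i <;> fin_cases j <;> simp [Matrix.mul_apply, Fin.sum_univ_two, add_comm])

theorem up_pow (k : ℕ) : (up (1 : F)) ^ k = up (k : F) := by
  induction k with
  | zero =>
    refine Subtype.ext ?_
    simp only [pow_zero, Nat.cast_zero, up_val]
    ext i j
    fin_cases i <;> fin_cases j <;> simp
  | succ k ih => rw [pow_succ, ih, up_add, Nat.cast_succ]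

theorem gen_of_prime (hq : (Fintype.card F).Prime) :
    Subgroup.closure ({up (1 : F), wS} : Set SL(2, F)) = ⊤ := by
  have : Fact (Fintype.card F).Prime := ⟨hq⟩
  haveI : CharP F (Fintype.card F) := by
    obtain ⟨p, hchar⟩ := CharP.exists F
    have : Fact p.Prime := ⟨CharP.char_is_prime F p⟩
    obtain ⟨e, -, he⟩ := FiniteField.card F p
    have := (Nat.Prime.pow_eq_iff hq).1 he.symm
    rw [← this.1]
    exact hchar
  rw [eq_top_iff, ← closure_gens, Subgroup.closure_le]
  rintro _ (⟨t, rfl⟩ | rfl)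
  · obtain ⟨k, hk⟩ := (ZMod.castHom_bijective F (n := Fintype.card F) rfl).2 t
    have : t = (k.val : F) := by
      rw [← hk, ← map_natCast (ZMod.castHom dvd_rfl F), ZMod.natCast_zmod_val]
    rw [this, ← up_pow]
    exact pow_mem (Subgroup.subset_closure (Set.mem_insert _ _)) _
  · exact Subgroup.subset_closure (Set.mem_insert_of_mem _ rfl)

theorem up_one_pow_card : (up (1 : F)) ^ Fintype.card F = 1 := by
  rw [up_pow, FiniteField.cast_card_eq_zero]
  refine Subtype.ext ?_
  rw [up_val]
  ext i j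
  fin_cases i <;> fin_cases j <;> simp

theorem wS_pow_four : (wS : SL(2, F)) ^ 4 = 1 := Subtype.ext (by
  rw [pow_succ, pow_succ, pow_succ, pow_one]
  show (wS : SL(2, F)).1 * (wS : SL(2, F)).1 * (wS : SL(2, F)).1 * (wS : SL(2, F)).1 =
    (1 : Matrix (Fin 2) (Fin 2) F)
  rw [wS_val]
  ext i j
  fin_cases i <;> fin_cases j <;> simp [Matrix.mul_apply, Fin.sum_univ_two])

theorem cube_one : (up 1 * wS : SL(2, F)) ^ 3 = 1 := Subtype.ext (by
  rw [pow_succ, pow_succ, pow_one]
  show (up (1 : F)).1 * (wS : SL(2, F)).1 * ((up (1 : F)).1 * (wS : SL(2, F)).1) *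
    ((up (1 : F)).1 * (wS : SL(2, F)).1) = (1 : Matrix (Fin 2) (Fin 2) F)
  rw [up_val, wS_val]
  ext i j
  fin_cases i <;> fin_cases j <;> simp [Matrix.mul_apply, Fin.sum_univ_two])

theorem exists_pair_two (F : Type*) [Field F] [Fintype F] :
    ∃ a b : SL(2, F), Subgroup.closure {a, b} = ⊤ := by
  by_cases h4 : 4 ≤ Fintype.card F
  · exact TwoGenSL2.exists_pair h4
  · have h1 : 1 < Fintype.card F := Fintype.one_lt_card
    have : Fintype.card F = 2 ∨ Fintype.card F = 3 := by omega
    exact ⟨_, _, gen_of_prime (F := F) (by rcases this with e | e <;> rw [e] <;> norm_num)⟩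

theorem square_four (hq : Fintype.card F = 4) :
    ∃ a b : SL(2, F) × SL(2, F), Subgroup.closure {a, b} = ⊤ := by
  classical
  have h2 : (2 : F) = 0 := by
    have h := FiniteField.cast_card_eq_zero F
    rw [hq] at h
    have h' : (2 : F) * 2 = 0 := by rw [← h]; norm_num
    exact mul_self_eq_zero.1 h'
  obtain ⟨ω, hω0, hω1⟩ : ∃ ω : F, ω ≠ 0 ∧ ω ≠ 1 := by
    by_contra hc
    push Not at hc
    have hsub : (Finset.univ : Finset F) ⊆ {0, 1} := fun y _ => by
      by_cases hy : y = 0
      · simp [hy]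
      · simp [hc y hy]
    have := (Finset.card_le_card hsub).trans Finset.card_le_two
    rw [Finset.card_univ, hq] at this
    omega
  have hω : ω ^ 2 = ω + 1 := by
    have h3 : ω ^ 3 = 1 := by
      have := FiniteField.pow_card_sub_one_eq_one ω hω0
      rwa [hq] at this
    have h0 : (ω - 1) * (ω ^ 2 + ω + 1) = 0 := by linear_combination h3
    have h' := (mul_eq_zero.1 h0).resolve_left (sub_ne_zero.2 hω1)
    linear_combination h' - (ω + 1) * h2
  set x : SL(2, F) := ⟨!![ω, 1; 1, 0], by
    rw [Matrix.det_fin_two_of]; linear_combination -h2⟩ with hx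
  set u : SL(2, F) := up 1 with hu
  have hxv : (x : Matrix (Fin 2) (Fin 2) F) = !![ω, 1; 1, 0] := rfl
  have hxi : ((x⁻¹ : SL(2, F)) : Matrix (Fin 2) (Fin 2) F) = !![0, 1; 1, ω] := by
    show x.1.adjugate = _
    rw [hxv, Matrix.adjugate_fin_two_of]
    ext i j
    fin_cases i <;> fin_cases j <;> simp <;> grind
  have hgen : Subgroup.closure ({u, x} : Set SL(2, F)) = ⊤ := by
    have hum : u ∈ Subgroup.closure ({u, x} : Set SL(2, F)) :=
      Subgroup.subset_closure (Set.mem_insert _ _)
    have hxm : x ∈ Subgroup.closure ({u, x} : Set SL(2, F)) :=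
      Subgroup.subset_closure (Set.mem_insert_of_mem _ rfl)
    have hupω : up ω ∈ Subgroup.closure ({u, x} : Set SL(2, F)) := by
      have : up ω = u * x * u * x⁻¹ * u * x := Subtype.ext (by
        show (up ω).1 = u.1 * x.1 * u.1 * (x⁻¹).1 * u.1 * x.1
        rw [hxi, hxv, hu, up_val, up_val]
        ext i j
        fin_cases i <;> fin_cases j <;> simp [Matrix.mul_apply, Fin.sum_univ_two] <;>
          grind)
      rw [this]
      exact mul_mem (mul_mem (mul_mem (mul_mem (mul_mem hum hxm) hum) (inv_mem hxm)) hum) hxm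
    have hwS : (wS : SL(2, F)) ∈ Subgroup.closure ({u, x} : Set SL(2, F)) := by
      have : (wS : SL(2, F)) = u * x⁻¹ * u * x * u := Subtype.ext (by
        show (wS : SL(2, F)).1 = u.1 * (x⁻¹).1 * u.1 * x.1 * u.1
        rw [hxi, hxv, hu, up_val, wS_val]
        ext i j
        fin_cases i <;> fin_cases j <;> simp [Matrix.mul_apply, Fin.sum_univ_two] <;>
          grind)
      rw [this]
      exact mul_mem (mul_mem (mul_mem (mul_mem hum (inv_mem hxm)) hum) hxm) hum
    have huniv : ∀ t : F, t = 0 ∨ t = 1 ∨ t = ω ∨ t = 1 + ω := by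
      intro t
      have hu4 : ({0, 1, ω, 1 + ω} : Finset F) = Finset.univ := by
        refine Finset.eq_univ_of_card _ ?_
        rw [hq]
        have e1 : (1 : F) + ω ≠ 0 := fun e => hω1 (by linear_combination e - h2)
        have e2 : (1 : F) + ω ≠ 1 := fun e => hω0 (by linear_combination e)
        have e3 : (1 : F) + ω ≠ ω := fun e => one_ne_zero (α := F) (by linear_combination e)
        simp [hω0.symm, hω1.symm, e1.symm, e2.symm, e3.symm]
      have h' : t ∈ ({0, 1, ω, 1 + ω} : Finset F) := by rw [hu4]; exact Finset.mem_univ t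
      simpa using h'
    rw [eq_top_iff, ← closure_gens, Subgroup.closure_le]
    rintro _ (⟨t, rfl⟩ | rfl)
    · rcases huniv t with rfl | rfl | rfl | rfl
      · rw [← Nat.cast_zero (R := F), ← up_pow]; exact pow_mem hum _
      · exact hum
      · exact hupω
      · rw [← up_add]; exact mul_mem hum hupω
    · exact hwS
  have hu2 : u ^ 2 = 1 := by
    rw [hu, up_pow]
    refine Subtype.ext ?_
    rw [up_val, Nat.cast_ofNat, h2]
    ext i j
    fin_cases i <;> fin_cases j <;> simp
  have hx5 : x ^ 5 = 1 := Subtype.ext (by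
    rw [pow_succ, pow_succ, pow_succ, pow_succ, pow_one]
    show x.1 * x.1 * x.1 * x.1 * x.1 = (1 : Matrix (Fin 2) (Fin 2) F)
    rw [hxv]
    ext i j
    fin_cases i <;> fin_cases j <;> simp [Matrix.mul_apply, Fin.sum_univ_two] <;> grind)
  exact ⟨_, _, square_of_coprime hgen hu2 hx5 (by norm_num)⟩

theorem square_large (h4 : 4 < Fintype.card F) (h7 : Fintype.card F ≠ 7) :
    ∃ a b : SL(2, F) × SL(2, F), Subgroup.closure {a, b} = ⊤ := by
  classical
  obtain ⟨ω, hω⟩ := IsCyclic.exists_monoid_generator (α := Fˣ)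
  have hord : orderOf ω = Fintype.card F - 1 := by
    rw [orderOf_eq_card_of_forall_mem_zpowers fun c => by
      obtain ⟨i, rfl⟩ := Submonoid.mem_powers_iff _ _ |>.1 (hω c)
      exact Subgroup.npow_mem_zpowers ω i, Nat.card_units, Nat.card_eq_fintype_card]
  obtain ⟨a, b, hgen, hb, c, hc, hac⟩ : ∃ a b : SL(2, F), Subgroup.closure {a, b} = ⊤ ∧
      b ^ 3 = 1 ∧ ∃ c : Fˣ, c ^ 6 ≠ 1 ∧
        (a : Matrix (Fin 2) (Fin 2) F) = !![(c : F), 0; 0, ((c⁻¹ : Fˣ) : F)] := by
    obtain ⟨h, hh, hgen⟩ := TwoGenSL2.exists_pair' (F := F) h4.le ω hω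
    refine ⟨h, _, hgen, cube_one, ω, fun e => ?_, hh⟩
    have := orderOf_dvd_of_pow_eq_one e
    rw [hord] at this
    have := Nat.le_of_dvd (by norm_num) this
    have h8 : Fintype.card F ≤ 7 := by omega
    interval_cases hq : Fintype.card F <;> simp_all
    all_goals
      have hp := FiniteField.isPrimePow_card (F := F)
      rw [hq] at hp
      exact absurd hp (by norm_num [isPrimePow_nat_iff_bounded])
  have hperf := CfsgLib.Classical.SL_fin_commutator_eq_top (F := F) 2 le_rfl
    (fun _ => by rw [Nat.card_eq_fintype_card]; omega)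
  refine ⟨(a, b), (b, a), ?_⟩
  set S := Subgroup.closure ({(a, b), (b, a)} : Set (SL(2, F) × SL(2, F)))
  have hA3 : (a ^ 3 : SL(2, F)).1 = !![(c : F) ^ 3, 0; 0, ((c : F)⁻¹) ^ 3] := by
    rw [pow_succ, pow_succ, pow_one]
    show a.1 * a.1 * a.1 = _
    rw [hac]
    ext i j
    fin_cases i <;> fin_cases j <;> simp [Matrix.mul_apply, Fin.sum_univ_two] <;> ring
  have ha3 : a ^ 3 ∉ Subgroup.center SL(2, F) := fun hc3 => by
    rw [Subgroup.mem_center_iff] at hc3
    have e : (up (1 : F)).1 * (a ^ 3 : SL(2, F)).1 = (a ^ 3 : SL(2, F)).1 * (up (1 : F)).1 :=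
      congrArg Subtype.val (hc3 (up 1))
    rw [hA3, up_val] at e
    have := congrFun (congrFun e 0) 1
    simp [Matrix.mul_apply, Fin.sum_univ_two] at this
    refine hc (Units.ext ?_)
    rw [Units.val_pow_eq_pow_val, Units.val_one]
    have hc0 := c.ne_zero
    field_simp at this
    linear_combination -this
  let K : Subgroup SL(2, F) := S.comap (MonoidHom.inl _ _)
  haveI : K.Normal := ⟨fun g hg x => by
    obtain ⟨y, hy⟩ := exists_snd (b := b) (d := a) hgen x
    have h1 : (g, (1 : SL(2, F))) ∈ S := hg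
    show (x * g * x⁻¹, (1 : SL(2, F))) ∈ S
    have := mul_mem (mul_mem hy h1) (inv_mem hy)
    simpa using this⟩
  have hK : K = ⊤ := by
    rcases CfsgLib.Classical.normal_SL_le_center_or_eq_top hperf K with hle | htop
    · exfalso
      have h3 : (a ^ 3, b ^ 3) ∈ S := pow_mem (Subgroup.subset_closure (Set.mem_insert _ _)) 3
      have hcen : ∀ x, ⁅a ^ 3, x⁆ ∈ Subgroup.center SL(2, F) := fun x => by
        obtain ⟨y, hy⟩ := exists_snd (b := b) (d := a) hgen x
        refine hle ?_
        show (⁅a ^ 3, x⁆, (1 : SL(2, F))) ∈ S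
        have hz : ⁅b ^ 3, y⁆ = 1 := by rw [hb, commutatorElement_one_left]
        rw [← hz]
        exact mul_mem (mul_mem (mul_mem h3 hy) (inv_mem h3)) (inv_mem hy)
      let f : SL(2, F) →* Subgroup.center SL(2, F) :=
        MonoidHom.mk' (fun x => ⟨⁅a ^ 3, x⁆, hcen x⟩) fun x y => Subtype.ext (by
          show ⁅a ^ 3, x * y⁆ = ⁅a ^ 3, x⁆ * ⁅a ^ 3, y⁆
          rw [show ⁅a ^ 3, x * y⁆ = ⁅a ^ 3, x⁆ * (x * ⁅a ^ 3, y⁆ * x⁻¹) by
            simp only [commutatorElement_def]; group, Subgroup.mem_center_iff.1 (hcen y) x,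
            mul_inv_cancel_right])
      have hf : commutator SL(2, F) ≤ f.ker := by
        rw [commutator_def, Subgroup.commutator_le]
        intro x _ y _
        rw [MonoidHom.mem_ker, map_commutatorElement, commutatorElement_eq_one_iff_mul_comm]
        exact Subtype.ext (Subgroup.mem_center_iff.1 (f y).2 _)
      refine ha3 (Subgroup.mem_center_iff.2 fun x => ?_)
      have h1 : f x = 1 := hf (hperf ▸ Subgroup.mem_top x)
      exact (commutatorElement_eq_one_iff_mul_comm.1 (congrArg Subtype.val h1)).symm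
    · exact htop
  refine eq_top_of_sides (fun x => ((Subgroup.eq_top_iff' K).1 hK x)) (fun y => ?_)
  obtain ⟨x, hx⟩ :=
    exists_fst (a := a) (c := b) (b := b) (d := a) (by rw [Set.pair_comm b a]; exact hgen) y
  have h1 : (x, (1 : SL(2, F))) ∈ S := ((Subgroup.eq_top_iff' K).1 hK x)
  simpa using mul_mem (inv_mem h1) hx

theorem exists_square (F : Type*) [Field F] [Fintype F] :
    ∃ a b : SL(2, F) × SL(2, F), Subgroup.closure {a, b} = ⊤ := by
  by_cases h4 : Fintype.card F = 4
  · exact square_four h4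
  by_cases hq : (Fintype.card F).Prime
  · rcases hq.eq_two_or_odd with h2 | hodd
    · have hb : (up 1 * wS : SL(2, F)) ^ 3 = 1 := cube_one
      refine ⟨_, _, square_of_coprime (g := up (1 : F)) (g' := up 1 * wS) ?_ up_one_pow_card hb
        (by rw [h2]; norm_num)⟩
      rw [eq_top_iff, ← gen_of_prime hq, Subgroup.closure_le]
      rintro y (rfl | rfl)
      · exact Subgroup.subset_closure (Set.mem_insert _ _)
      · have := mul_mem (inv_mem (Subgroup.subset_closure
          (Set.mem_insert (up (1 : F)) {up 1 * wS}))) (Subgroup.subset_closure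
          (Set.mem_insert_of_mem (up (1 : F)) (Set.mem_singleton (up (1 : F) * wS))))
        simpa using this
    · refine ⟨_, _, square_of_coprime (gen_of_prime hq) up_one_pow_card wS_pow_four ?_⟩
      rw [hq.coprime_iff_not_dvd]
      intro hd
      have h' : Fintype.card F ∣ 2 * 2 := hd
      rcases hq.dvd_mul.1 h' with h'' | h'' <;>
        · have := Nat.le_of_dvd two_pos h''
          have := hq.two_le
          omega
  · have hne : ∀ p : ℕ, p.Prime → Fintype.card F ≠ p := fun p hp e => hq (e ▸ hp)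
    have := hne 2 Nat.prime_two; have := hne 3 Nat.prime_three
    have := hne 7 (by norm_num)
    have := Fintype.one_lt_card (α := F)
    exact square_large (by omega) (by omega)

end SLTwo

theorem three_params {m : ℕ} (hm : 3 ≤ m) (F : Type*) [Field F] [Fintype F] :
    Nat.card F ^ 3 ≤ Nat.card (Matrix.ProjectiveSpecialLinearGroup (Fin m) F) := by
  classical
  let i : Fin m := ⟨0, by omega⟩
  let j : Fin m := ⟨1, by omega⟩
  let k : Fin m := ⟨2, by omega⟩
  have hij : i ≠ j := by simp [i, j, Fin.ext_iff]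
  have hjk : j ≠ k := by simp [j, k, Fin.ext_iff]
  have hik : i ≠ k := by simp [i, k, Fin.ext_iff]
  let f : F × F × F → Matrix.ProjectiveSpecialLinearGroup (Fin m) F := fun t =>
    QuotientGroup.mk' _ (StSL.tv i j t.1 * StSL.tv j k t.2.1 * StSL.tv i k t.2.2)
  have hf : Function.Injective f := by
    rintro ⟨a, b, c⟩ ⟨a', b', c'⟩ e
    have h1 := (QuotientGroup.mk'_eq_mk' _).1 e
    obtain ⟨z, hz, e'⟩ := h1
    obtain ⟨r, -, hzr⟩ := Matrix.SpecialLinearGroup.mem_center_iff.1 hz
    have hzv : ∀ v : Fin m → F, z.1 *ᵥ v = r • v := fun v => by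
      rw [← hzr, Matrix.scalar_apply]
      funext l
      simp [mulVec_diagonal]
    have hv := fun v => congrArg (fun g : SpecialLinearGroup (Fin m) F => g.1 *ᵥ v) e'
    simp only [StSL.mul_mulVec', hzv] at hv
    have e1 := congrFun (hv (Pi.single i 1)) i
    simp [StSL.tv_mulVec hij, StSL.tv_mulVec hjk, StSL.tv_mulVec hik, hij, hjk, hik, hij.symm,
      hjk.symm, hik.symm, mulVec_smul] at e1
    subst e1
    have e2 := congrFun (hv (Pi.single j 1)) i
    have e3 := congrFun (hv (Pi.single k 1)) j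
    have e4 := congrFun (hv (Pi.single k 1)) i
    simp [StSL.tv_mulVec hij, StSL.tv_mulVec hjk, StSL.tv_mulVec hik, hij, hjk, hik, hij.symm,
      hjk.symm, hik.symm] at e2 e3 e4
    subst e2 e3
    simp at e4 ⊢
    exact e4
  have := Nat.card_le_card_of_injective f hf
  rw [Nat.card_prod, Nat.card_prod] at this
  rw [pow_succ, pow_succ, pow_one, mul_assoc]
  exact this

/-- Two generators of `SL_m × SL_2`. -/
theorem exists_pair_prod {F : Type*} [Field F] [Fintype F] {m : ℕ} (hm : 2 ≤ m) :
    ∃ a b : SpecialLinearGroup (Fin m) F × SL(2, F), Subgroup.closure {a, b} = ⊤ := by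
  classical
  rcases eq_or_lt_of_le hm with rfl | hm3
  · exact exists_square F
  obtain ⟨u, v, huv⟩ : ∃ u v : SpecialLinearGroup (Fin m) F, Subgroup.closure {u, v} = ⊤ := by
    rcases eq_or_lt_of_le (show 3 ≤ m from hm3) with rfl | hm4
    · obtain ⟨u, g, -, -, h⟩ := Cfsg.Agent.S2278.result (F := F)
      exact ⟨_, _, h⟩
    · obtain ⟨⟨u, v, -, -, h⟩, -⟩ := Cfsg.Agent.S2279.result (F := F) m hm4
      exact ⟨u, v, h⟩
  obtain ⟨b, d, hbd⟩ := exists_pair_two F
  refine ⟨(u, b), (v, d), ?_⟩
  set S := Subgroup.closure ({(u, b), (v, d)} : Set (SpecialLinearGroup (Fin m) F × SL(2, F)))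
  let K : Subgroup (SpecialLinearGroup (Fin m) F) := S.comap (MonoidHom.inl _ _)
  haveI : K.Normal := ⟨fun g hg x => by
    obtain ⟨y, hy⟩ := exists_snd (b := b) (d := d) huv x
    have h1 : (g, (1 : SL(2, F))) ∈ S := hg
    show (x * g * x⁻¹, (1 : SL(2, F))) ∈ S
    have := mul_mem (mul_mem hy h1) (inv_mem hy)
    simpa using this⟩
  have : Nontrivial (Fin m) := Fin.nontrivial_iff_two_le.2 hm
  have hperf := CfsgLib.Classical.SL_commutator_eq_top (F := F) (ι := Fin m) (by rw [Fintype.card_fin]; exact hm3)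
  have hK : K = ⊤ := by
    rcases CfsgLib.Classical.normal_SL_le_center_or_eq_top hperf K with hle | htop
    · exfalso
      have hex : ∀ c : Matrix.ProjectiveSpecialLinearGroup (Fin m) F,
          ∃ g y, QuotientGroup.mk' _ g = c ∧ (g, y) ∈ S := fun c => by
        obtain ⟨g, rfl⟩ := QuotientGroup.mk'_surjective _ c
        obtain ⟨y, hy⟩ := exists_snd (b := b) (d := d) huv g
        exact ⟨g, y, rfl, hy⟩
      choose g y hg hy using hex
      have hinj : Function.Injective y := by
        intro c c' e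
        have := mul_mem (hy c) (inv_mem (hy c'))
        rw [Prod.inv_mk, Prod.mk_mul_mk, e, mul_inv_cancel] at this
        have hmem : g c * (g c')⁻¹ ∈ K := this
        rw [← hg c, ← hg c', ← mul_inv_eq_one, ← map_inv, ← map_mul]
        exact (QuotientGroup.eq_one_iff _).2 (hle hmem)
      have h1 := (three_params (show 3 ≤ m from hm3) F).trans (Nat.card_le_card_of_injective y hinj)
      rw [CfsgLib.Classical.card_SL_two] at h1
      have h2 : 1 < Nat.card F := Finite.one_lt_card
      have h3 : Nat.card F * (Nat.card F ^ 2 - 1) < Nat.card F ^ 3 := by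
        rw [pow_succ' (Nat.card F) 2]
        have : 0 < Nat.card F ^ 2 := by positivity
        exact Nat.mul_lt_mul_of_pos_left (by omega) (by omega)
      omega
    · exact htop
  refine eq_top_of_sides (fun x => ((Subgroup.eq_top_iff' K).1 hK x)) (fun y => ?_)
  obtain ⟨x, hx⟩ := exists_fst (a := u) (c := v) hbd y
  have h1 : (x, (1 : SL(2, F))) ∈ S := ((Subgroup.eq_top_iff' K).1 hK x)
  simpa using mul_mem (inv_mem h1) hx

section Blocks

variable {F : Type*} [Field F] {n : ℕ}

/-- Relabelled indices. -/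
def relabelSL {ι κ : Type*} [Fintype ι] [DecidableEq ι] [Fintype κ] [DecidableEq κ] (e : ι ≃ κ) :
    SpecialLinearGroup ι F →* SpecialLinearGroup κ F where
  toFun A := ⟨A.1.submatrix e.symm e.symm, by rw [det_submatrix_equiv_self, A.2]⟩
  map_one' := Subtype.ext (submatrix_one_equiv e.symm)
  map_mul' A B := Subtype.ext (by
    show (A.1 * B.1).submatrix e.symm e.symm = A.1.submatrix e.symm e.symm * B.1.submatrix e.symm e.symm
    rw [submatrix_mul_equiv])

theorem relabelSL_surjective {ι κ : Type*} [Fintype ι] [DecidableEq ι] [Fintype κ] [DecidableEq κ]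
    (e : ι ≃ κ) : Function.Surjective (relabelSL (F := F) e) := fun B =>
  ⟨relabelSL e.symm B, Subtype.ext (by
    show (B.1.submatrix e.symm.symm e.symm.symm).submatrix e.symm e.symm = B.1
    ext i j
    simp)⟩

/-- A block subgroup is generated by two elements. -/
theorem exists_blk_pair [Fintype F] (hn : 4 ≤ n) {a b : Fin n} (h : a ≠ b) :
    ∃ A B : SpecialLinearGroup (Fin n) F, A ∈ Blk F a b ∧ B ∈ Blk F a b ∧
      Blk F a b ≤ Subgroup.closure {A, B} := by
  classical
  let P : Fin n → Prop := fun i => i ≠ a ∧ i ≠ b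
  have hP : Fintype.card {i // P i} = n - 2 := by
    rw [Fintype.card_subtype, show (Finset.univ.filter P) = Finset.univ \ {a, b} by
      ext i; simp [P]]
    rw [Finset.card_univ_diff, Finset.card_pair h, Fintype.card_fin]
  have hQ : Fintype.card {i // ¬ P i} = 2 := by
    rw [Fintype.card_subtype_compl, hP, Fintype.card_fin]; omega
  let e1 : Fin (n - 2) ≃ {i // P i} := (Fintype.equivFinOfCardEq hP).symm
  let e2 : Fin 2 ≃ {i // ¬ P i} := (Fintype.equivFinOfCardEq hQ).symm
  let f := (emb (F := F) P).comp (relabelSL e1)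
  let g := (emb (F := F) fun i => ¬ P i).comp (relabelSL e2)
  obtain ⟨⟨x1, x2⟩, ⟨y1, y2⟩, hgen⟩ := exists_pair_prod (F := F) (m := n - 2) (by omega)
  have hf : ∀ z, f z ∈ Blk F a b := fun z =>
    emb_mem_blk P (fun i j hi hj => same_out hi.1 hi.2 hj.1 hj.2) _
  have hg : ∀ z, g z ∈ Blk F a b := fun z => emb_mem_blk _ (fun i j hi hj => by
    simp only [P, not_and_or, not_not] at hi hj
    simp [Same, hi, hj]) _
  have hcomm : ∀ z z', Commute (f z) (g z') := by
    intro z z'
    show Commute (emb P (relabelSL e1 z)) (emb _ (relabelSL e2 z'))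
    generalize relabelSL e1 z = A
    generalize relabelSL e2 z' = B
    have hA : A ∈ Subgroup.closure (Classical.elemTransvections {i // P i} F) := by
      rw [Classical.closure_elemTransvections]; exact Subgroup.mem_top _
    induction hA using Subgroup.closure_induction with
    | one => rw [map_one]; exact Commute.one_left _
    | mul x y _ _ hx hy => rw [map_mul]; exact hx.mul_left hy
    | inv x _ hx => rw [map_inv]; exact hx.inv_left
    | mem x hx =>
      obtain ⟨⟨i, hi⟩, ⟨j, hj⟩, hij, t, rfl⟩ := hx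
      rw [emb_transvection]
      have hB : B ∈ Subgroup.closure (Classical.elemTransvections {i // ¬ P i} F) := by
        rw [Classical.closure_elemTransvections]; exact Subgroup.mem_top _
      induction hB using Subgroup.closure_induction with
      | one => rw [map_one]; exact Commute.one_right _
      | mul x y _ _ hx hy => rw [map_mul]; exact hx.mul_right hy
      | inv x _ hx => rw [map_inv]; exact hx.inv_right
      | mem x hx =>
        obtain ⟨⟨k, hk⟩, ⟨l, hl⟩, hkl, u, rfl⟩ := hx
        rw [emb_transvection]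
        exact StSL.rel_tv.comm (fun e => hij (Subtype.ext e)) (fun e => hkl (Subtype.ext e))
          (fun (e : i = l) => hl (e ▸ hi)) (fun (e : j = k) => hk (e ▸ hj)) t u
  let F2 : SpecialLinearGroup (Fin (n - 2)) F × SL(2, F) →* SpecialLinearGroup (Fin n) F :=
    f.noncommCoprod g hcomm
  refine ⟨F2 (x1, x2), F2 (y1, y2), mul_mem (hf _) (hg _), mul_mem (hf _) (hg _), ?_⟩
  have hrange : ∀ z, F2 z ∈ Subgroup.closure {F2 (x1, x2), F2 (y1, y2)} := by
    intro z
    have := Subgroup.mem_map_of_mem F2 (hgen ▸ Subgroup.mem_top z)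
    rwa [MonoidHom.map_closure, Set.image_pair] at this
  refine blk_induction fun i j t hij hs => ?_
  by_cases hi : P i
  · have hj : P j := by
      have : ¬ (j = a ∨ j = b) := fun hc => (hs.2 hc).elim hi.1 hi.2
      exact not_or.1 this
    obtain ⟨z, hz⟩ := relabelSL_surjective (F := F) e1
      (SpecialLinearGroup.transvection (i := (⟨i, hi⟩ : {k // P k})) (j := ⟨j, hj⟩)
        (fun e => hij (congrArg Subtype.val e)) t)
    have e : F2 (z, 1) = StSL.tv i j t := by
      show f z * g 1 = _
      rw [map_one, mul_one]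
      show emb P (relabelSL e1 z) = _
      rw [hz, emb_transvection]
    exact e ▸ hrange _
  · have hj : ¬ P j := fun hj => hi (by
      have : ¬ (i = a ∨ i = b) := fun hc => (hs.1 hc).elim hj.1 hj.2
      exact not_or.1 this)
    obtain ⟨z, hz⟩ := relabelSL_surjective (F := F) e2
      (SpecialLinearGroup.transvection (i := (⟨i, hi⟩ : {k // ¬ P k})) (j := ⟨j, hj⟩)
        (fun e => hij (congrArg Subtype.val e)) t)
    have e : F2 (1, z) = StSL.tv i j t := by
      show f 1 * g z = _
      rw [map_one, one_mul]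
      show emb _ (relabelSL e2 z) = _
      rw [hz, emb_transvection]
    exact e ▸ hrange _

end Blocks

end CfsgLib.Pres.DPlus
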