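import Cfsg.Agent.Lib.Pres.DPlus.Omega
import Cfsg.Agent.Lib.Pres.DPlus.Pair
import Cfsg.Agent.Lib.Pres.Pad
import Cfsg.Agent.Lib.Pres.ShortAlt.Large
import Cfsg.Agent.Lib.Geometry.POmega

/-!
A presentation of `Ω⁺` from one of `SL_n`: one more generator and six more relations.
-/

set_option autoImplicit false
set_option maxHeartbeats 800000

namespace CfsgLib.Pres.DPlus

open Matrix Equiv QuadraticMap
open CfsgLib.Geometry (orth plusMat matQuad)
open CfsgLib.StSL (tv rel_tv)
open CfsgLib.Pres.AltMono (dg)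

variable {F : Type*} [Field F] [Fintype F] {n : ℕ}

/-- One more generator and six more relations present the commutator subgroup of the orthogonal
group. -/
theorem presData_omega (hn : 4 ≤ n) {ι : Type} {f : ι → SpecialLinearGroup (Fin n) F}
    {L : List (FreeGroup ι)} (h : PresData f L) :
    ∃ (f' : ι ⊕ Unit → commutator (orth (QQ F n))) (L' : List (FreeGroup (ι ⊕ Unit))),
      L'.length = L.length + 6 ∧ PresData f' L' := by
  classical
  let p : Fin n := ⟨n - 1, by omega⟩
  let r : Fin n := ⟨n - 2, by omega⟩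
  let o : Fin n := ⟨n - 3, by omega⟩
  have hop : o ≠ p := by simp only [o, p, ne_eq, Fin.ext_iff]; omega
  have hor : o ≠ r := by simp only [o, r, ne_eq, Fin.ext_iff]; omega
  have hpr : p ≠ r := by simp only [p, r, ne_eq, Fin.ext_iff]; omega
  have HM := rels_model (F := F) hn hop hor hpr
  obtain ⟨A₁, B₁, hA₁, hB₁, hAB₁⟩ := exists_blk_pair (F := F) hn hpr
  obtain ⟨A₂, B₂, hA₂, hB₂, hAB₂⟩ := exists_blk_pair (F := F) hn hop
  choose word hword using fun g => exists_word h.2.1 g
  let σ : FreeGroup ι →* FreeGroup (ι ⊕ Unit) := FreeGroup.lift fun i => FreeGroup.of (Sum.inl i)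
  let W : FreeGroup (ι ⊕ Unit) := FreeGroup.of (Sum.inr ())
  let e : SpecialLinearGroup (Fin n) F → FreeGroup (ι ⊕ Unit) := fun g => σ (word g)
  let T : FreeGroup (ι ⊕ Unit) := W * e (tv o r 1) * W⁻¹
  let N : FreeGroup (ι ⊕ Unit) := e (nn o r 1)
  let L' : List (FreeGroup (ι ⊕ Unit)) := L.map σ ++
    [W * e A₁ * W⁻¹ * (e A₁)⁻¹, W * e B₁ * W⁻¹ * (e B₁)⁻¹,
      T * e A₂ * T⁻¹ * (e A₂)⁻¹, T * e B₂ * T⁻¹ * (e B₂)⁻¹,
      W * W * (e (dg (-1 : Fˣ) p r))⁻¹, W * N * W⁻¹ * (N⁻¹ * W * N)⁻¹]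
  set C := commutator (orth (QQ F n)) with hC
  have hcl := closure_model (F := F) hn hop hor hpr
  have hρC : ∀ g, ρ F n g ∈ C := fun g => by
    rw [hC, ← hcl]; exact Subgroup.subset_closure (Or.inl ⟨g, rfl⟩)
  have hwC : w₀ F hpr ∈ C := by
    rw [hC, ← hcl]; exact Subgroup.subset_closure (Or.inr rfl)
  let f' : ι ⊕ Unit → C := Sum.elim (fun i => ⟨ρ F n (f i), hρC _⟩) fun _ => ⟨w₀ F hpr, hwC⟩
  have hσ : ∀ v, ((FreeGroup.lift f' (σ v) : C) : orth (QQ F n)) = ρ F n (FreeGroup.lift f v) :=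
    fun v => DFunLike.congr_fun (FreeGroup.ext_hom
      (C.subtype.comp ((FreeGroup.lift f').comp σ)) ((ρ F n).comp (FreeGroup.lift f))
      fun i => by simp [σ, f']) v
  have he : ∀ g, ((FreeGroup.lift f' (e g) : C) : orth (QQ F n)) = ρ F n g := fun g => by
    rw [show e g = σ (word g) from rfl, hσ, hword]
  have hW : ((FreeGroup.lift f' W : C) : orth (QQ F n)) = w₀ F hpr := by simp [W, f']
  have hold : ∀ v ∈ L', FreeGroup.lift f' v = 1 := by
    intro v hv
    refine Subtype.ext ?_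
    simp only [L', List.mem_append, List.mem_map, List.mem_cons, List.not_mem_nil, or_false] at hv
    rcases hv with ⟨v, hv, rfl⟩ | rfl | rfl | rfl | rfl | rfl | rfl
    · rw [hσ, h.1 v hv, map_one]; rfl
    all_goals
      simp only [T, N, map_mul, map_inv, Subgroup.coe_mul, InvMemClass.coe_inv, OneMemClass.coe_one,
        he, hW]
    · rw [(HM.comm A₁ hA₁).eq, mul_inv_cancel_right, mul_inv_cancel]
    · rw [(HM.comm B₁ hB₁).eq, mul_inv_cancel_right, mul_inv_cancel]
    · rw [(HM.top A₂ hA₂).eq, mul_inv_cancel_right, mul_inv_cancel]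
    · rw [(HM.top B₂ hB₂).eq, mul_inv_cancel_right, mul_inv_cancel]
    · rw [HM.sq, mul_inv_cancel]
    · rw [HM.braid, mul_inv_cancel]
  have hgen : Subgroup.closure (Set.range f') = ⊤ := by
    refine Subgroup.map_injective C.subtype_injective ?_
    rw [MonoidHom.map_closure, ← MonoidHom.range_eq_map, Subgroup.range_subtype]
    refine le_antisymm ?_ ?_
    · rw [Subgroup.closure_le]
      rintro _ ⟨y, -, rfl⟩
      exact y.2
    · conv_lhs => rw [hC, ← hcl]
      rw [Subgroup.closure_le]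
      rintro y (⟨g, rfl⟩ | rfl)
      · have : (⊤ : Subgroup (SpecialLinearGroup (Fin n) F)) ≤
            (Subgroup.closure (C.subtype '' Set.range f')).comap (ρ F n) := by
          rw [← h.2.1, Subgroup.closure_le]
          rintro _ ⟨i, rfl⟩
          exact Subgroup.subset_closure ⟨f' (.inl i), ⟨_, rfl⟩, rfl⟩
        exact this (Subgroup.mem_top g)
      · exact Subgroup.subset_closure ⟨f' (.inr ()), ⟨_, rfl⟩, rfl⟩
  refine ⟨f', L', by simp [L'], ShortAlt.presData_of_inj f' L' hold hgen ?_⟩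
  set X0 := PresentedGroup ({v | v ∈ L'} : Set (FreeGroup (ι ⊕ Unit)))
  let mk : FreeGroup (ι ⊕ Unit) →* X0 := PresentedGroup.mk _
  have hrel : ∀ {v}, v ∈ L' → mk v = 1 := fun {v} hv => PresentedGroup.one_of_mem hv
  obtain ⟨φ, hφ⟩ := h.lift X0 (fun i => mk (FreeGroup.of (Sum.inl i))) (fun v hv => by
    have := hrel (v := σ v) (List.mem_append_left _ (List.mem_map_of_mem hv))
    rw [← this]
    exact DFunLike.congr_fun (FreeGroup.ext_hom
      (FreeGroup.lift fun i => mk (FreeGroup.of (Sum.inl i))) (mk.comp σ) fun i => by simp [σ]) v)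
  let w : X0 := mk W
  have hφe : ∀ g, φ g = mk (e g) := fun g => by
    have := DFunLike.congr_fun (FreeGroup.ext_hom (φ.comp (FreeGroup.lift f)) (mk.comp σ)
      fun i => by simp [σ, hφ]) (word g)
    simpa [hword, e] using this
  have hcomm : ∀ {a b : X0}, a * b * a⁻¹ * b⁻¹ = 1 → Commute a b := fun {a b} e0 =>
    mul_inv_eq_iff_eq_mul.1 (mul_inv_eq_one.1 e0)
  have hcent : ∀ {z : X0} {a b : SpecialLinearGroup (Fin n) F} {A B : Fin n},
      Blk F A B ≤ Subgroup.closure {a, b} → Commute z (φ a) → Commute z (φ b) →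
      ∀ g ∈ Blk F A B, Commute z (φ g) := by
    intro z a b A B hle ha hb g hg
    have : Subgroup.closure {a, b} ≤ (Subgroup.centralizer {z}).comap φ := by
      rw [Subgroup.closure_le]
      rintro y (rfl | rfl) <;>
        simp only [SetLike.mem_coe, Subgroup.mem_comap, Subgroup.mem_centralizer_singleton_iff]
      · exact ha.eq.symm
      · exact hb.eq.symm
    exact (Subgroup.mem_centralizer_singleton_iff.1 (this (hle hg))).symm
  have hlast : ∀ {v}, v ∈ [W * e A₁ * W⁻¹ * (e A₁)⁻¹, W * e B₁ * W⁻¹ * (e B₁)⁻¹,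
      T * e A₂ * T⁻¹ * (e A₂)⁻¹, T * e B₂ * T⁻¹ * (e B₂)⁻¹,
      W * W * (e (dg (-1 : Fˣ) p r))⁻¹, W * N * W⁻¹ * (N⁻¹ * W * N)⁻¹] → mk v = 1 :=
    fun hv => hrel (List.mem_append_right _ hv)
  have hT : w * φ (tv o r 1) * w⁻¹ = mk T := by
    simp only [T, map_mul, map_inv, hφe, w]
  have H : Rels φ w o p r :=
    { hn := hn
      op := hop
      or' := hor
      pr := hpr
      comm := hcent hAB₁
        (hcomm (by simpa [w, hφe] using hlast (v := W * e A₁ * W⁻¹ * (e A₁)⁻¹) (by simp)))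
        (hcomm (by simpa [w, hφe] using hlast (v := W * e B₁ * W⁻¹ * (e B₁)⁻¹) (by simp)))
      top := hcent hAB₂
        (hcomm (by rw [hT]; simpa [hφe] using hlast (v := T * e A₂ * T⁻¹ * (e A₂)⁻¹) (by simp)))
        (hcomm (by rw [hT]; simpa [hφe] using hlast (v := T * e B₂ * T⁻¹ * (e B₂)⁻¹) (by simp)))
      sq := mul_inv_eq_one.1
        (by simpa [w, hφe] using hlast (v := W * W * (e (dg (-1 : Fˣ) p r))⁻¹) (by simp))
      braid := mul_inv_eq_one.1 (by
        have e0 := hlast (v := W * N * W⁻¹ * (N⁻¹ * W * N)⁻¹) (by simp only [List.mem_cons, true_or, or_true])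
        simp only [N, map_mul, map_inv, ← hφe] at e0
        exact e0) }
  let Φ : X0 →* C := PresentedGroup.toGroup (f := f') (rels := {v | v ∈ L'}) hold
  let π : X0 →* orth (QQ F n) := C.subtype.comp Φ
  have hπmk : ∀ v, π (mk v) = (FreeGroup.lift f' v : C) := fun v =>
    DFunLike.congr_fun (FreeGroup.ext_hom (π.comp mk) (C.subtype.comp (FreeGroup.lift f'))
      fun i => by
        show ((Φ (PresentedGroup.of i)) : orth (QQ F n)) = _
        rw [PresentedGroup.toGroup.of]; simp) v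
  have M : ToModel φ w o p r π :=
    { rels := H
      comp := MonoidHom.ext fun g => by rw [MonoidHom.comp_apply, hφe, hπmk, he]
      map_w := by show π (mk W) = _; rw [hπmk, hW] }
  have hgen0 : Subgroup.closure (Set.range φ ∪ {w}) = ⊤ := by
    rw [eq_top_iff, ← PresentedGroup.closure_range_of, Subgroup.closure_le]
    rintro _ ⟨i | u, rfl⟩
    · exact Subgroup.subset_closure (Or.inl ⟨f i, hφ i⟩)
    · exact Subgroup.subset_closure (Or.inr rfl)
  have hinj := M.injective hgen0 rfl rfl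
  exact Function.Injective.of_comp (f := C.subtype) hinj

/-- The centre of `Ω⁺` is cyclic. -/
theorem exists_center_gen (hn : 4 ≤ n) :
    ∃ z : commutator (orth (QQ F n)),
      Subgroup.zpowers z = Subgroup.center (commutator (orth (QQ F n))) := by
  classical
  have hnd : (polarBilin (QQ F n)).Nondegenerate := CfsgLib.Geometry.nondegenerate_matQuad
    (by rw [CfsgLib.Geometry.det_plus_gram]; exact pow_ne_zero _ (neg_ne_zero.2 one_ne_zero))
  have hfr : 5 ≤ Module.finrank F (Fin n ⊕ Fin n → F) := by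
    rw [Module.finrank_fintype_fun_eq_card, Fintype.card_sum, Fintype.card_fin]; omega
  have key : ∀ g ∈ Subgroup.center (commutator (orth (QQ F n))), g = 1 ∨
      ∀ v, ((g : orth (QQ F n)) : (Fin n ⊕ Fin n → F) ≃ₗ[F] (Fin n ⊕ Fin n → F)) v = -v := by
    intro g hg
    obtain ⟨t, htt, ht⟩ := (CfsgLib.Geometry.mem_center_omega_iff hnd hfr g).1 hg
    rcases mul_self_eq_one_iff.1 htt with rfl | rfl
    · exact Or.inl (Subtype.ext (orth_ext fun v => by rw [ht, one_smul]; rfl))
    · exact Or.inr fun v => by rw [ht, neg_one_smul]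
  by_cases hex : ∃ g ∈ Subgroup.center (commutator (orth (QQ F n))), g ≠ 1
  · obtain ⟨z, hz, hz1⟩ := hex
    refine ⟨z, le_antisymm (Subgroup.zpowers_le.2 hz) fun g hg => ?_⟩
    rcases key g hg with rfl | hg'
    · exact one_mem _
    · have e : g = z := Subtype.ext (orth_ext fun v => by
        rw [hg', (key z hz).resolve_left hz1])
      rw [e]; exact Subgroup.mem_zpowers z
  · push Not at hex
    exact ⟨1, le_antisymm (Subgroup.zpowers_le.2 (one_mem _)) fun g hg => by rw [hex g hg]; exact one_mem _⟩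

end CfsgLib.Pres.DPlus
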